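import Mathlib

/-!
# A separably generated function field is that of a monic hypersurface
-/

set_option autoImplicit false

universe u

open MvPolynomial

namespace Groth.Agent.HypBirat

theorem exists_hypersurface {k L : Type u} [Field k] [Field L] [Algebra k L] [Algebra.EssFiniteType k L]
    {d : ℕ} (s : Fin d → L) (hs : IsTranscendenceBasis k s)
    (hsep : Algebra.IsSeparable ↥(IntermediateField.adjoin k (Set.range s)) L) :
    ∃ g : Polynomial (MvPolynomial (Fin d) k), g.Monic ∧
      Irreducible (g.map (algebraMap (MvPolynomial (Fin d) k) (FractionRing (MvPolynomial (Fin d) k)))) ∧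
      (g.map (algebraMap (MvPolynomial (Fin d) k) (FractionRing (MvPolynomial (Fin d) k)))).Separable ∧
      IsDomain (AdjoinRoot g) ∧
      ∃ e : FractionRing (AdjoinRoot g) ≃+* L, ∀ c : k,
        e (algebraMap (AdjoinRoot g) (FractionRing (AdjoinRoot g)) (algebraMap k (AdjoinRoot g) c)) =
          algebraMap k L c := by
  set R := MvPolynomial (Fin d) k with hR
  set F := FractionRing R with hF
  let ev : R →ₐ[k] L := aeval s
  letI : Algebra R L := ev.toRingHom.toAlgebra
  haveI : IsScalarTower k R L := IsScalarTower.of_algebraMap_eq fun c => (ev.commutes c).symm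
  haveI : FaithfulSMul R L :=
    (faithfulSMul_iff_algebraMap_injective R L).2 (algebraicIndependent_iff_injective_aeval.1 hs.1)
  letI : Algebra F L := FractionRing.liftAlgebra R L
  haveI : Algebra.IsSeparable F L := by
    haveI := hsep
    refine Algebra.IsSeparable.of_equiv_equiv (A₁ := ↥(IntermediateField.adjoin k (Set.range s)))
      (B₁ := L) hs.1.aevalEquivField.symm.toRingEquiv (RingEquiv.refl L) ?_
    refine RingHom.ext fun z => ?_
    obtain ⟨w, rfl⟩ := hs.1.aevalEquivField.surjective z
    show algebraMap F L (hs.1.aevalEquivField.symm (hs.1.aevalEquivField w)) = _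
    rw [AlgEquiv.symm_apply_apply]
    have hext : algebraMap F L =
        (algebraMap ↥(IntermediateField.adjoin k (Set.range s)) L).comp
          hs.1.aevalEquivField.toAlgHom.toRingHom := by
      refine IsLocalization.ringHom_ext (nonZeroDivisors R) (RingHom.ext fun r => ?_)
      rw [RingHom.comp_apply, ← IsScalarTower.algebraMap_apply R F L]
      exact (AlgebraicIndependent.aevalEquivField_algebraMap_apply_coe hs.1 r).symm
    exact congrArg (fun h : F →+* L => h w) hext
  haveI : Algebra.EssFiniteType F L := by
    haveI : IsScalarTower k F L := IsScalarTower.of_algebraMap_eq fun c => by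
      rw [IsScalarTower.algebraMap_apply k R F, ← IsScalarTower.algebraMap_apply R F L,
        ← IsScalarTower.algebraMap_apply k R L]
    exact Algebra.EssFiniteType.of_comp k F L
  haveI : FiniteDimensional F L := Algebra.finite_of_essFiniteType_of_isAlgebraic
  obtain ⟨α₀, hα₀⟩ := Field.exists_primitive_element F L
  haveI : Algebra.IsAlgebraic R F := IsLocalization.isAlgebraic _ (nonZeroDivisors R)
  obtain ⟨y, hy0, hy⟩ := IsAlgebraic.exists_integral_multiple
    ((Algebra.IsAlgebraic.isAlgebraic (R := F) α₀).restrictScalars R)
  set α := y • α₀ with hα_def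
  have hα : IntermediateField.adjoin F ({α} : Set L) = ⊤ := by
    rw [eq_top_iff, ← hα₀, IntermediateField.adjoin_simple_le_iff]
    have hyF : algebraMap R L y ≠ 0 :=
      (map_ne_zero_iff _ (FaithfulSMul.algebraMap_injective R L)).2 hy0
    have e : α₀ = (algebraMap F L (algebraMap R F y))⁻¹ * α := by
      rw [hα_def, Algebra.smul_def, ← IsScalarTower.algebraMap_apply R F L, inv_mul_cancel_left₀ hyF]
    rw [e]
    exact mul_mem (inv_mem (IntermediateField.algebraMap_mem _ _))
      (IntermediateField.mem_adjoin_simple_self F α)
  set g := minpoly R α with hg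
  have hmon : g.Monic := minpoly.monic hy
  have hgF : g.map (algebraMap R F) = minpoly F α := (minpoly.isIntegrallyClosed_eq_field_fractions' F hy).symm
  have hprime : Prime g := (minpoly.irreducible hy).prime
  haveI : IsDomain (AdjoinRoot g) := AdjoinRoot.isDomain_of_prime hprime
  let ι : AdjoinRoot g →ₐ[R] L := AdjoinRoot.liftAlgHom g (Algebra.ofId R L) α (minpoly.aeval R α)
  have hι : Function.Injective ι := by
    rw [injective_iff_map_eq_zero]
    intro b hb
    induction b using AdjoinRoot.induction_on with
    | _ p =>
      rw [AdjoinRoot.liftAlgHom_mk] at hb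
      exact AdjoinRoot.mk_eq_zero.2 ((minpoly.isIntegrallyClosed_dvd_iff hy p).1 hb)
  let φ : FractionRing (AdjoinRoot g) →+* L := IsFractionRing.lift hι
  have hφ : Function.Surjective φ := by
    intro z
    have hz : z ∈ IntermediateField.adjoin F ({α} : Set L) := by rw [hα]; trivial
    have hF' : ∀ c : F, algebraMap F L c ∈ φ.fieldRange := fun c => by
      obtain ⟨a, b, -, rfl⟩ := IsFractionRing.div_surjective R c
      rw [map_div₀, ← IsScalarTower.algebraMap_apply R F L, ← IsScalarTower.algebraMap_apply R F L]
      refine div_mem ⟨algebraMap (AdjoinRoot g) _ (algebraMap R _ a), ?_⟩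
        ⟨algebraMap (AdjoinRoot g) _ (algebraMap R _ b), ?_⟩ <;>
        exact (IsFractionRing.lift_algebraMap hι _).trans (ι.commutes _)
    let E : IntermediateField F L := φ.fieldRange.toIntermediateField hF'
    have hle : IntermediateField.adjoin F ({α} : Set L) ≤ E :=
      IntermediateField.adjoin_simple_le_iff.2
        ⟨algebraMap (AdjoinRoot g) _ (AdjoinRoot.root g),
          (IsFractionRing.lift_algebraMap hι _).trans (AdjoinRoot.liftAlgHom_root _ _ _ _)⟩
    exact hle hz
  refine ⟨g, hmon, hgF ▸ minpoly.irreducible (Algebra.IsIntegral.isIntegral α),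
    hgF ▸ Algebra.IsSeparable.isSeparable F α, inferInstance,
    RingEquiv.ofBijective φ ⟨φ.injective, hφ⟩, fun c => ?_⟩
  show φ _ = _
  rw [IsFractionRing.lift_algebraMap, IsScalarTower.algebraMap_apply k R (AdjoinRoot g)]
  exact (ι.commutes _).trans (IsScalarTower.algebraMap_apply k R L c).symm

end Groth.Agent.HypBirat
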